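import Groth.Prelude.Def_PicF2
import Groth.Prelude.Def_SecTwist
import Groth.Agent.QCoh.FiniteType
import Groth.Agent.Props.GenLocus
import Groth.Agent.ProjTwist.Invertible

/-!
# The ideals of the zero scheme of a section
-/

set_option linter.style.haveILetI false

universe u

open CategoryTheory AlgebraicGeometry TopologicalSpace Opposite

noncomputable section

namespace Groth.Agent.ZeroSchemeLib

open Groth.Agent.QCoh

variable {X : Scheme.{u}} {L : X.Modules}

/-- The value of `s` over `U`. -/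
def sval (s : Coh.structureModule X ⟶ L) (U : X.Opens) : Γ(L, U) := PicF2.secVal L s U

theorem res_sval (s : Coh.structureModule X ⟶ L) {U V : X.Opens} (h : V ≤ U) :
    res L h (sval s U) = sval s V :=
  SecTwist.map_val s (homOfLE h)

/-- The functions `a` with `a L(U) ⊆ O(U) s`. -/
def zIdeal (s : Coh.structureModule X ⟶ L) (U : X.Opens) : Ideal Γ(X, U) :=
  show Ideal Γ(X, U) from PicF2.zeroIdealOn L s U

theorem mem_zIdeal (s : Coh.structureModule X ⟶ L) {U : X.Opens} (a : Γ(X, U)) :
    a ∈ zIdeal s U ↔ ∀ m : Γ(L, U), ∃ b : Γ(X, U), a • m = b • sval s U :=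
  Iff.rfl

theorem map_zIdeal [L.IsQuasicoherent] [L.IsFiniteType] (s : Coh.structureModule X ⟶ L)
    (U : X.affineOpens) (g : Γ(X, U.1)) :
    (zIdeal s U.1).map (X.presheaf.map (homOfLE (X.basicOpen_le g)).op).hom =
      zIdeal s (X.affineBasicOpen g).1 := by
  have hU : IsAffineOpen U.1 := U.2
  have hle : X.basicOpen g ≤ U.1 := X.basicOpen_le g
  have hgu : IsUnit (rres hle g) := RingedSpace.isUnit_res_basicOpen _ g
  refine le_antisymm (Ideal.map_le_iff_le_comap.mpr fun a ha => ?_) fun a ha => ?_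
  · refine (mem_zIdeal s (rres hle a)).mpr fun m => ?_
    obtain ⟨n, t, ht⟩ := (isLocalizingAt L hU g).surj m
    obtain ⟨b, hb⟩ := (mem_zIdeal s a).mp ha t
    obtain ⟨v, hv⟩ := hgu.pow n
    refine ⟨(↑v⁻¹ : Γ(X, X.basicOpen g)) * rres hle b, ?_⟩
    have e := congrArg (res L hle) (show a • t = b • sval s U.1 from hb)
    rw [res_smul, res_smul, ht, res_sval, ← hv] at e
    rw [mul_smul, ← e, smul_smul, smul_smul, mul_right_comm, v.inv_mul, one_mul]
  · haveI := finite_sections_of_isFiniteType L hU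
    obtain ⟨r, q, hq⟩ := Module.Finite.exists_fin (R := Γ(X, U.1)) (M := Γ(L, U.1))
    letI := hU.isLocalization_basicOpen g
    letI : Algebra Γ(X, U.1) Γ(X, X.basicOpen g) := (rres hle).hom.toAlgebra
    obtain ⟨n, a', ha'⟩ := IsLocalization.Away.surj g (show Γ(X, X.basicOpen g) from a)
    have key : ∀ i, ∃ N : ℕ, ∀ M, N ≤ M → ∃ c : Γ(X, U.1), (g ^ M * a') • q i = c • sval s U.1 := by
      intro i
      obtain ⟨b, hb⟩ := (mem_zIdeal s (U := X.basicOpen g) a).mp ha (res L hle (q i))
      obtain ⟨k, b', hb'⟩ := IsLocalization.Away.surj g b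
      have e : res L hle ((g ^ k * a') • q i - (g ^ n * b') • sval s U.1) = 0 := by
        rw [map_sub, res_smul, res_smul, res_sval, sub_eq_zero, map_mul, map_mul, map_pow, map_pow]
        change (rres hle g ^ k * algebraMap Γ(X, U.1) Γ(X, X.basicOpen g) a') • _ =
          (rres hle g ^ n * algebraMap Γ(X, U.1) Γ(X, X.basicOpen g) b') • _
        rw [← ha', ← hb']
        change (rres hle g ^ k * (a * rres hle g ^ n)) • _ = (rres hle g ^ n * (b * rres hle g ^ k)) • _
        rw [mul_smul, mul_comm a, mul_smul, hb, smul_smul, smul_smul]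
        congr 1
        ring
      obtain ⟨N, hN⟩ := (isLocalizingAt L hU g).eq_zero _ e
      refine ⟨N + k, fun M hM => ⟨g ^ (M - k) * (g ^ n * b'), ?_⟩⟩
      have hN' : g ^ (M - k) • ((g ^ k * a') • q i - (g ^ n * b') • sval s U.1) = 0 := by
        rw [← Nat.sub_add_cancel (show N ≤ M - k by omega), pow_add, mul_smul, hN, smul_zero]
      rw [smul_sub, sub_eq_zero, smul_smul, smul_smul] at hN'
      rw [← hN', ← mul_assoc, ← pow_add, Nat.sub_add_cancel (show k ≤ M by omega)]
    choose N hN using key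
    choose c hc using fun i => hN i (Finset.univ.sup N) (Finset.le_sup (Finset.mem_univ i))
    have hmem : g ^ (Finset.univ.sup N) * a' ∈ zIdeal s U.1 := by
      refine (mem_zIdeal s _).mpr fun m => ?_
      obtain ⟨d, hd⟩ := (Submodule.mem_span_range_iff_exists_fun _).mp (hq.ge (Submodule.mem_top (x := m)))
      refine ⟨∑ i, d i * c i, ?_⟩
      rw [← hd, Finset.smul_sum, Finset.sum_smul]
      refine Finset.sum_congr rfl fun i _ => ?_
      rw [smul_comm, hc i, smul_smul]
    obtain ⟨v, hv⟩ := hgu.pow (Finset.univ.sup N + n)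
    have h2 : (↑v⁻¹ : Γ(X, X.basicOpen g)) * rres hle (g ^ (Finset.univ.sup N) * a') =
        (show Γ(X, X.basicOpen g) from a) := by
      rw [Units.inv_mul_eq_iff_eq_mul, hv, map_mul, map_pow]
      change rres hle g ^ Finset.univ.sup N * algebraMap Γ(X, U.1) Γ(X, X.basicOpen g) a' = _
      rw [← ha']
      change rres hle g ^ Finset.univ.sup N * (_ * rres hle g ^ n) = _
      rw [pow_add]
      ring
    change (show Γ(X, X.basicOpen g) from a) ∈ _
    rw [← h2]
    exact Ideal.mul_mem_left _ _ (Ideal.mem_map_of_mem _ hmem)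

/-- The zero scheme is cut out by `zIdeal` on every affine open. -/
theorem zeroScheme_ideal [L.IsQuasicoherent] [L.IsFiniteType] (s : Coh.structureModule X ⟶ L)
    (U : X.affineOpens) : (PicF2.zeroScheme L s).ideal U = zIdeal s U.1 := by
  let J : X.IdealSheafData :=
    { ideal := fun V => zIdeal s V.1, map_ideal_basicOpen := fun V g => map_zIdeal s V g }
  refine le_antisymm (Scheme.IdealSheafData.ideal_ofIdeals_le _ U) ?_
  exact (show J ≤ PicF2.zeroScheme L s from Scheme.IdealSheafData.le_ofIdeals_iff.mpr le_rfl) U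

theorem isFiniteType_of_isInvertible (hL : PicF.IsInvertible L) [L.IsQuasicoherent] : L.IsFiniteType := by
  refine isFiniteType_of_forall_exists L fun x => ?_
  obtain ⟨W, e, hxW, he⟩ := Props.GenLocus.exists_isGen hL x
  obtain ⟨U, hU, hxU, hle⟩ := exists_isAffineOpen_mem_and_subset (show x ∈ W from hxW)
  exact ⟨U, hU, hxU, Module.Finite.of_surjective
    (LinearMap.toSpanSingleton Γ(X, U) Γ(L, U) (res L hle e)) (he U hle).2⟩

/-- In a frame the ideal is generated by the coordinate of the section. -/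
theorem zIdeal_eq_span (s : Coh.structureModule X ⟶ L) {U : X.Opens} {e : Γ(L, U)}
    (he : Props.GenLocus.IsGen L U e) {f : Γ(X, U)} (hf : sval s U = f • e) :
    zIdeal s U = Ideal.span {f} := by
  ext a
  rw [mem_zIdeal, Ideal.mem_span_singleton']
  constructor
  · intro h
    obtain ⟨b, hb⟩ := h e
    refine ⟨b, he.injective le_rfl ?_⟩
    rw [res_self, mul_smul, ← hf, ← hb]
  · rintro ⟨b, rfl⟩ m
    obtain ⟨c, hc, -⟩ := he.exists_eq le_rfl m
    refine ⟨b * c, ?_⟩
    rw [hc, res_self, hf, smul_smul, smul_smul]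
    congr 1
    ring

theorem zeroScheme_ideal_eq_span (hL : PicF.IsInvertible L) (s : Coh.structureModule X ⟶ L)
    (U : X.affineOpens) {e : Γ(L, U.1)} (he : Props.GenLocus.IsGen L U.1 e) {f : Γ(X, U.1)}
    (hf : sval s U.1 = f • e) : (PicF2.zeroScheme L s).ideal U = Ideal.span {f} := by
  haveI : L.IsQuasicoherent := ProjTwist.isQCoh_of_isInvertible hL
  haveI := isFiniteType_of_isInvertible hL
  rw [zeroScheme_ideal, zIdeal_eq_span s he hf]

end Groth.Agent.ZeroSchemeLib

end
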